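import Mathlib.LinearAlgebra.QuadraticForm.Basic
import Mathlib.LinearAlgebra.Dimension.RankNullity
import Mathlib.LinearAlgebra.FiniteDimensional.Basic
import Mathlib.Algebra.CharP.Two
import Mathlib.LinearAlgebra.Dual.Lemmas
import Mathlib.LinearAlgebra.Dimension.Constructions
import Mathlib.Tactic

/-!
Quaternion groups acting on quadratic spaces in characteristic two.
-/

set_option autoImplicit false

namespace Cfsg.Agent.H929.L34

open Module QuadraticMap

section sq

variable {K : Type*} [Field K] {L : Type*} [AddCommGroup L] [Module K L]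

/-- a square zero map on an invariant submodule has rank at most half the dimension. -/
theorem two_mul_le [FiniteDimensional K L] (c : Module.End K L) (V : Submodule K L)
    (hV : ∀ x ∈ V, c x ∈ V) (h0 : ∀ x ∈ V, c (c x) = 0) :
    2 * finrank K ↥(V.map c) ≤ finrank K ↥V := by
  set g : V →ₗ[K] L := c.comp V.subtype with hg
  have h1 : finrank K ↥(LinearMap.range g) + finrank K ↥(LinearMap.ker g) = finrank K V :=
    g.finrank_range_add_finrank_ker
  have h2 : LinearMap.range g = V.map c := by
    rw [hg, LinearMap.range_comp, Submodule.range_subtype]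
  have h3 : finrank K ↥(V.map c) ≤ finrank K ↥(LinearMap.ker g) := by
    have hle : V.map c ≤ (LinearMap.ker g).map V.subtype := by
      rintro _ ⟨x, hx, rfl⟩
      exact ⟨⟨c x, hV x hx⟩, by simpa [hg] using h0 x hx, rfl⟩
    refine (Submodule.finrank_mono hle).trans ?_
    exact Submodule.finrank_map_le _ _
  rw [h2] at h1
  omega

/-- the norm of the Klein four group has rank at most a quarter of the dimension. -/
theorem four_mul_le [FiniteDimensional K L] (a b : Module.End K L) (V : Submodule K L)
    (ha : ∀ x ∈ V, a x ∈ V) (hb : ∀ x ∈ V, b x ∈ V)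
    (haa : ∀ x ∈ V, a (a x) = 0) (hbb : ∀ x ∈ V, b (b x) = 0)
    (hab : ∀ x ∈ V, a (b x) = b (a x)) :
    4 * finrank K ↥((V.map b).map a) ≤ finrank K ↥V := by
  have h1 := two_mul_le b V hb hbb
  have h2 : 2 * finrank K ↥((V.map b).map a) ≤ finrank K ↥(V.map b) := by
    refine two_mul_le a (V.map b) ?_ ?_
    · rintro _ ⟨x, hx, rfl⟩
      exact ⟨a x, ha x hx, (hab x hx).symm⟩
    · rintro _ ⟨x, hx, rfl⟩
      rw [hab x hx, hab _ (ha x hx), haa x hx, map_zero]
  omega

end sq

/-- `i`, `j` generate an action of the quaternion group of order eight with central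
involution `z`. -/
structure Quat {K : Type*} [Field K] {L : Type*} [AddCommGroup L] [Module K L]
    (i j z : Module.End K L) : Prop where
  ii : ∀ x, i (i x) = z x
  jj : ∀ x, j (j x) = z x
  ij : ∀ x, i (j x) = z (j (i x))
  zz : ∀ x, z (z x) = x

/-- the norm of the quaternion group -/
def nm {K : Type*} [Field K] {L : Type*} [AddCommGroup L] [Module K L]
    (i j z : Module.End K L) : Module.End K L := (1 + i) * (1 + j) * (1 + z)

section rank

variable {K : Type*} [Field K] [CharP K 2] {L : Type*} [AddCommGroup L] [Module K L]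
  {i j z : Module.End K L}

include K in
theorem two_self (x : L) : x + x = 0 := by
  have : (2 : K) = 0 := CharTwo.two_eq_zero
  rw [← two_smul K, this, zero_smul]

omit [CharP K 2] in
theorem Quat.iz (h : Quat i j z) (x : L) : i (z x) = z (i x) := by rw [← h.ii, ← h.ii]
omit [CharP K 2] in
theorem Quat.jz (h : Quat i j z) (x : L) : j (z x) = z (j x) := by rw [← h.jj, ← h.jj]

/-- **the norm has rank at most a quarter of `W`.** -/
theorem Quat.rank_nm_le [FiniteDimensional K L] (h : Quat i j z) (W Z : Submodule K L)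
    (hi : ∀ x ∈ W, i x ∈ W) (hj : ∀ x ∈ W, j x ∈ W) (hz : ∀ x ∈ W, z x = x)
    (hZj : ∀ x ∈ Z, j x = x)
    (hr : LinearMap.range (1 + z) ≤ W ⊔ Z) :
    4 * finrank K ↥(LinearMap.range (nm i j z)) ≤ finrank K ↥W := by
  have hle : LinearMap.range (nm i j z) ≤ (W.map (1 + j)).map (1 + i) := by
    rintro _ ⟨x, rfl⟩
    obtain ⟨w, hw, t, ht, hwt⟩ := Submodule.mem_sup.1 (hr ⟨x, rfl⟩)
    refine ⟨(1 + j) w, ⟨w, hw, rfl⟩, ?_⟩
    have e : (1 + j) ((1 + z) x) = (1 + j) w := by
      rw [← hwt, map_add]
      have : (1 + j) t = 0 := by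
        simp only [LinearMap.add_apply, Module.End.one_apply, hZj t ht]
        exact two_self (K := K) t
      rw [this, add_zero]
    simp only [nm, Module.End.mul_apply]
    rw [e]
  refine (Nat.mul_le_mul_left 4 (Submodule.finrank_mono hle)).trans ?_
  refine four_mul_le (1 + i) (1 + j) W ?_ ?_ ?_ ?_ ?_
  · intro x hx
    exact W.add_mem hx (hi x hx)
  · intro x hx
    exact W.add_mem hx (hj x hx)
  · intro x hx
    simp only [LinearMap.add_apply, Module.End.one_apply, map_add, h.ii, hz x hx]
    rw [show x + i x + (i x + x) = (x + x) + (i x + i x) by abel, two_self (K := K) x,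
      two_self (K := K) (i x), add_zero]
  · intro x hx
    simp only [LinearMap.add_apply, Module.End.one_apply, map_add, h.jj, hz x hx]
    rw [show x + j x + (j x + x) = (x + x) + (j x + j x) by abel, two_self (K := K) x,
      two_self (K := K) (j x), add_zero]
  · intro x hx
    simp only [LinearMap.add_apply, Module.End.one_apply, map_add]
    rw [h.ij x, hz _ (hj _ (hi x hx))]
    abel

end rank

section quad

variable {K : Type*} [Field K] [CharP K 2] {U : Type*} [AddCommGroup U] [Module K U]
  {i j z : Module.End K U} (q : QuadraticForm K U)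

omit [CharP K 2] in
theorem polar_inv (g : Module.End K U) (hg : ∀ u, q (g u) = q u) (u v : U) :
    polar q (g u) (g v) = polar q u v := by
  simp only [polar, ← map_add, hg]

theorem polar_self0 (u : U) : polar q u u = 0 := by
  rw [QuadraticMap.polar_self]
  have : (2 : K) = 0 := CharTwo.two_eq_zero
  rw [two_smul]
  exact CharTwo.add_self_eq_zero _

theorem neg_eq' (x : K) : -x = x := CharTwo.neg_eq x

/-- if `w = a + g a`, `g` an isometry, then `B(w,a) = q(w)`. -/
theorem polar_add_self (g : Module.End K U) (hg : ∀ u, q (g u) = q u) (a : U) :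
    polar q (a + g a) a = q (a + g a) := by
  rw [QuadraticMap.polar_add_left, polar_self0, zero_add, QuadraticMap.polar_comm]
  simp only [polar, hg]
  rw [sub_sub, CharTwo.add_self_eq_zero, sub_zero]

/-- **the identity.** -/
theorem Quat.q_add (h : Quat i j z) (hi : ∀ u, q (i u) = q u) (hj : ∀ u, q (j u) = q u) (u : U) :
    q (u + z u) = polar q (u + z u) ((1 + i) ((1 + j) u)) := by
  have hk : ∀ u, q ((i * j) u) = q u := fun u => by
    rw [Module.End.mul_apply, hi, hj]
  have ea : (u + i u) + i (u + i u) = u + z u := by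
    rw [map_add, h.ii, show u + i u + (i u + z u) = u + z u + (i u + i u) by abel,
      two_self (K := K), add_zero]
  have eb : (u + j u) + j (u + j u) = u + z u := by
    rw [map_add, h.jj, show u + j u + (j u + z u) = u + z u + (j u + j u) by abel,
      two_self (K := K), add_zero]
  have hkk : (i * j) ((i * j) u) = z u := by
    simp only [Module.End.mul_apply]
    have e1 : j (i (j u)) = i (z (z u)) := by
      have : i (j (j u)) = z (j (i (j u))) := h.ij (j u)
      rw [h.jj] at this
      have e2 := congrArg z this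
      rw [h.zz] at e2
      rw [← e2, ← h.iz]
    rw [e1, h.zz, h.ii]
  have ec : (u + (i * j) u) + (i * j) (u + (i * j) u) = u + z u := by
    rw [map_add, hkk, show u + (i * j) u + ((i * j) u + z u) = u + z u + ((i * j) u + (i * j) u) by
      abel, two_self (K := K), add_zero]
  have pa := polar_add_self q i hi (u + i u)
  have pb := polar_add_self q j hj (u + j u)
  have pc := polar_add_self q (i * j) hk (u + (i * j) u)
  rw [ea] at pa
  rw [eb] at pb
  rw [ec] at pc
  have hc : u + (i * j) u = (u + i u) + i (u + j u) := by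
    rw [map_add, Module.End.mul_apply,
      show u + i u + (i u + i (j u)) = u + i (j u) + (i u + i u) by abel,
      two_self (K := K), add_zero]
  rw [hc, QuadraticMap.polar_add_right, pa] at pc
  have p0 : polar q (u + z u) (i (u + j u)) = 0 := by
    have := pc
    rwa [add_eq_left] at this
  have : (1 + i) ((1 + j) u) = (u + j u) + i (u + j u) := by
    simp only [LinearMap.add_apply, Module.End.one_apply]
  rw [this, QuadraticMap.polar_add_right, p0, add_zero, pb]

omit [CharP K 2] in
/-- `1 + z` is self adjoint. -/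
theorem adj (hz : ∀ u, q (z u) = q u) (hzz : ∀ u, z (z u) = u) (u v : U) :
    polar q ((1 + z) u) v = polar q u ((1 + z) v) := by
  simp only [LinearMap.add_apply, Module.End.one_apply, QuadraticMap.polar_add_left,
    QuadraticMap.polar_add_right]
  congr 1
  rw [← polar_inv q z hz, hzz]

omit [CharP K 2] in
theorem Quat.hz (h : Quat i j z) (hi : ∀ u, q (i u) = q u) (u : U) : q (z u) = q u := by
  rw [← h.ii, hi, hi]

/-- **small rank: the norm vanishes, and `q` vanishes on the range of `1 + z`.** -/
theorem Quat.q_range [FiniteDimensional K U] (h : Quat i j z) (hi : ∀ u, q (i u) = q u)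
    (hj : ∀ u, q (j u) = q u) (hr : finrank K ↥(LinearMap.range (1 + z)) < 4) (u : U) :
    q ((1 + z) u) = 0 := by
  have h1 := h.rank_nm_le (LinearMap.range (1 + z)) ⊥ ?_ ?_ ?_ ?_ le_sup_left
  · have h2 : finrank K ↥(LinearMap.range (nm i j z)) = 0 := by omega
    have h3 : nm i j z = 0 := by
      rw [Submodule.finrank_eq_zero] at h2
      exact LinearMap.range_eq_bot.1 h2
    have e : (1 + z) u = u + z u := by simp only [LinearMap.add_apply, Module.End.one_apply]
    rw [e, h.q_add q hi hj, ← e, adj q (h.hz q hi) h.zz]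
    have e2 : (1 + z) ((1 + i) ((1 + j) u)) = nm i j z u := by
      simp only [nm, Module.End.mul_apply, LinearMap.add_apply, Module.End.one_apply, map_add,
        h.iz, h.jz]
      abel
    rw [e2, h3, LinearMap.zero_apply, QuadraticMap.polar_zero_right]
  · rintro _ ⟨x, rfl⟩
    exact ⟨i x, by simp only [LinearMap.add_apply, Module.End.one_apply, map_add, h.iz]⟩
  · rintro _ ⟨x, rfl⟩
    exact ⟨j x, by simp only [LinearMap.add_apply, Module.End.one_apply, map_add, h.jz]⟩
  · rintro _ ⟨x, rfl⟩
    simp only [LinearMap.add_apply, Module.End.one_apply, map_add, h.zz]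
    exact add_comm _ _
  · intro x hx
    rw [(Submodule.mem_bot K).1 hx, map_zero]

end quad

section wedge

variable {K : Type*} [Field K] [CharP K 2] {U : Type*} [AddCommGroup U] [Module K U]
  {i j z : Module.End K U} (q : QuadraticForm K U)

/-- `a ∧ b : u ↦ B(u,a) b + B(u,b) a`. -/
def wd (a : U) : U →ₗ[K] Module.End K U where
  toFun b :=
    { toFun := fun u => polar q u a • b + polar q u b • a
      map_add' := fun x y => by
        simp only [QuadraticMap.polar_add_left, add_smul]; abel
      map_smul' := fun c x => by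
        simp only [QuadraticMap.polar_smul_left, smul_eq_mul, mul_smul, RingHom.id_apply,
          smul_add] }
  map_add' b c := by
    ext u
    simp only [LinearMap.add_apply, LinearMap.coe_mk, AddHom.coe_mk, smul_add,
      QuadraticMap.polar_add_right, add_smul]
    abel
  map_smul' c b := by
    ext u
    simp only [LinearMap.coe_mk, AddHom.coe_mk, LinearMap.smul_apply, RingHom.id_apply,
      QuadraticMap.polar_smul_right, smul_eq_mul, mul_smul, smul_add]
    rw [smul_comm]

omit [CharP K 2] in
theorem wd_apply (a b u : U) : wd q a b u = polar q u a • b + polar q u b • a := rfl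

theorem wd_self (a : U) : wd q a a = 0 := by
  ext u
  rw [wd_apply, two_self (K := K), LinearMap.zero_apply]

theorem wd_comm (a b : U) : wd q a b = wd q b a := by
  ext u
  rw [wd_apply, wd_apply, add_comm]

/-- the similitude Lie algebra -/
def Sim : Submodule K (Module.End K U) where
  carrier := {X | ∃ μ : K, ∀ u, polar q (X u) u = μ * q u}
  add_mem' := by
    rintro X Y ⟨a, ha⟩ ⟨b, hb⟩
    exact ⟨a + b, fun u => by
      rw [LinearMap.add_apply, QuadraticMap.polar_add_left, ha, hb, add_mul]⟩
  zero_mem' := ⟨0, fun u => by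
    rw [LinearMap.zero_apply, QuadraticMap.polar_zero_left, zero_mul]⟩
  smul_mem' := by
    rintro c X ⟨a, ha⟩
    exact ⟨c * a, fun u => by
      rw [LinearMap.smul_apply, QuadraticMap.polar_smul_left, ha, smul_eq_mul, mul_assoc]⟩

omit [CharP K 2] in
theorem q_add' (u v : U) : q (u + v) = q u + q v + polar q u v := by
  simp only [polar]; ring

theorem sim_polar {X : Module.End K U} {μ : K} (h : ∀ u, polar q (X u) u = μ * q u) (u v : U) :
    polar q (X u) v = polar q u (X v) + μ * polar q u v := by
  have e := h (u + v)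
  rw [map_add, QuadraticMap.polar_add_left, QuadraticMap.polar_add_right,
    QuadraticMap.polar_add_right, h u, h v, q_add', mul_add, mul_add] at e
  rw [QuadraticMap.polar_comm q u (X v)]
  have h2 : ∀ x : K, x + x = 0 := CharTwo.add_self_eq_zero
  linear_combination e - h2 (polar q (X v) u)

/-- the map `X ↦ X + z X z`. -/
def tz (z : Module.End K U) (X : Module.End K U) : Module.End K U := X + z * X * z

variable {q}

/-- **ten dimensions.** -/
theorem exists_ten [FiniteDimensional K U] (h8 : finrank K U = 8)
    (hnd : ∀ x, (∀ y, polar q x y = 0) → x = 0)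
    (hz : ∀ u, q (z u) = q u) (hzz : ∀ u, z (z u) = u) (h0 : ∀ u, q ((1 + z) u) = 0)
    (h2 : finrank K ↥(LinearMap.range (1 + z)) = 2) :
    ∃ R : Submodule K (Module.End K U), finrank K ↥R ≤ 10 ∧ ∀ X ∈ Sim q, X + z * X * z ∈ R := by
  have hch : ∀ x : K, x + x = 0 := CharTwo.add_self_eq_zero
  have hself : ∀ u, polar q u u = 0 := polar_self0 q
  set n : Module.End K U := 1 + z with hn
  have hadj : ∀ u v, polar q (n u) v = polar q u (n v) := adj q hz hzz
  have halt : ∀ u, polar q (n u) u = 0 := fun u => by
    have := polar_add_self q z hz u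
    have e : n u = u + z u := by simp only [hn, LinearMap.add_apply, Module.End.one_apply]
    rw [e, this, ← e, h0]
  -- a basis of the range
  let b := Module.finBasisOfFinrankEq K ↥(LinearMap.range n) h2
  obtain ⟨u1, hu1⟩ := (b 0).2
  obtain ⟨u2, hu2⟩ := (b 1).2
  set p1 := n u1 with hp1
  set p2 := n u2 with hp2
  have hrange : ∀ u, ∃ a c : K, n u = a • p1 + c • p2 := fun u => by
    have h := b.sum_repr ⟨n u, ⟨u, rfl⟩⟩
    rw [Fin.sum_univ_two] at h
    have h' := congrArg Subtype.val h
    simp only [Submodule.coe_add, Submodule.coe_smul] at h'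
    rw [← hu1, ← hu2] at h'
    exact ⟨_, _, h'.symm⟩
  have hind : ∀ a c : K, a • p1 + c • p2 = 0 → a = 0 ∧ c = 0 := fun a c h => by
    have hl := Fintype.linearIndependent_iff.1 b.linearIndependent ![a, c] (by
      rw [Fin.sum_univ_two]
      refine Subtype.ext ?_
      simp only [Submodule.coe_add, Submodule.coe_smul, Submodule.coe_zero,
        Matrix.cons_val_zero, Matrix.cons_val_one]
      rw [← hu1, ← hu2]; exact h)
    exact ⟨hl 0, hl 1⟩
  have h11 : polar q p1 u1 = 0 := halt u1
  have h22 : polar q p2 u2 = 0 := halt u2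
  set c := polar q p1 u2 with hc
  have h12 : polar q u1 p2 = c := by rw [hc, hp1, hp2, hadj]
  have h21 : polar q p2 u1 = c := by rw [QuadraticMap.polar_comm, h12]
  have h12' : polar q u2 p1 = c := by rw [QuadraticMap.polar_comm]
  have hc0 : c ≠ 0 := by
    intro hc0
    have : p1 = 0 := hnd _ fun y => by
      obtain ⟨a, d, hy⟩ := hrange y
      rw [hp1, hadj, hy, QuadraticMap.polar_add_right, QuadraticMap.polar_smul_right,
        QuadraticMap.polar_smul_right, QuadraticMap.polar_comm q u1 p1, h11, h12, hc0]
      simp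
    have := (hind 1 0 (by rw [this]; simp)).1
    exact one_ne_zero this
  have hformula : ∀ u, n u = (c⁻¹ * polar q u p2) • p1 + (c⁻¹ * polar q u p1) • p2 := fun u => by
    obtain ⟨a, d, hy⟩ := hrange u
    have e1 : polar q (n u) u2 = polar q u p2 := by rw [hadj]
    have e2 : polar q (n u) u1 = polar q u p1 := by rw [hadj]
    rw [hy, QuadraticMap.polar_add_left, QuadraticMap.polar_smul_left,
      QuadraticMap.polar_smul_left, h22, ← hc, smul_eq_mul, smul_eq_mul, mul_zero, add_zero] at e1
    rw [hy, QuadraticMap.polar_add_left, QuadraticMap.polar_smul_left,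
      QuadraticMap.polar_smul_left, h11, h21, smul_eq_mul, smul_eq_mul, mul_zero, zero_add] at e2
    rw [hy, ← e1, ← e2]
    congr 2 <;> field_simp
  have hpp : polar q p1 p2 = 0 := by
    have := h0 (u1 + u2)
    rw [map_add, q_add' q, ← hp1, ← hp2] at this
    rw [hp1, hp2, h0, h0, zero_add, zero_add] at this
    exact this
  have hq1 : q p1 = 0 := h0 u1
  have hq2 : q p2 = 0 := h0 u2
  -- the orthogonal complement
  let f : U →ₗ[K] (K × K) × (K × K) :=
    ((q.polarBilin.flip p1).prod (q.polarBilin.flip p2)).prod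
      ((q.polarBilin.flip u1).prod (q.polarBilin.flip u2))
  let V4 : Submodule K U := LinearMap.ker f
  have hcc : c⁻¹ * c = 1 := inv_mul_cancel₀ hc0
  have hfx : ∀ x, f x = ((polar q x p1, polar q x p2), (polar q x u1, polar q x u2)) :=
    fun x => rfl
  have hV4 : ∀ x, x ∈ V4 ↔ (polar q x p1 = 0 ∧ polar q x p2 = 0) ∧
      (polar q x u1 = 0 ∧ polar q x u2 = 0) := fun x => by
    simp only [V4, LinearMap.mem_ker, hfx, Prod.mk_eq_zero]
  have hsurj : Function.Surjective f := by
    rintro ⟨⟨a, b'⟩, ⟨d, e⟩⟩
    refine ⟨(c⁻¹ * b') • u1 + (c⁻¹ * a) • u2 +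
      (c⁻¹ * (e + c⁻¹ * b' * polar q u1 u2)) • p1 +
      (c⁻¹ * (d + c⁻¹ * a * polar q u1 u2)) • p2, ?_⟩
    have e1 : polar q u1 p1 = 0 := by rw [QuadraticMap.polar_comm, h11]
    have e2 : polar q u2 p2 = 0 := by rw [QuadraticMap.polar_comm, h22]
    have e3 : polar q p2 p1 = 0 := by rw [QuadraticMap.polar_comm, hpp]
    have e4 : polar q u2 u1 = polar q u1 u2 := QuadraticMap.polar_comm _ _ _
    rw [hfx]
    set t := polar q u1 u2 with ht
    simp only [QuadraticMap.polar_add_left,
      QuadraticMap.polar_smul_left, smul_eq_mul, hself, h11, h22, h12, h21, h12', hpp, e1, e2, e3,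
      e4, ← hc, ← ht, Prod.mk.injEq]
    refine ⟨⟨?_, ?_⟩, ⟨?_, ?_⟩⟩
    · linear_combination a * hcc
    · linear_combination b' * hcc
    · linear_combination (d + c⁻¹ * a * t) * hcc + hch (c⁻¹ * a * t)
    · linear_combination (e + c⁻¹ * b' * t) * hcc + hch (c⁻¹ * b' * t)
  have hfin4 : finrank K V4 ≤ 4 := by
    have h := f.finrank_range_add_finrank_ker
    rw [LinearMap.range_eq_top.2 hsurj, finrank_top, h8] at h
    simp only [Module.finrank_prod, Module.finrank_self] at h
    have : finrank K V4 = finrank K (LinearMap.ker f) := rfl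
    omega
  have hdec : ∀ x, ∃ v ∈ V4, ∃ a d : K, x = (c⁻¹ * polar q x p2) • u1 +
      (c⁻¹ * polar q x p1) • u2 + a • p1 + d • p2 + v := fun x => by
    set x' := x + (c⁻¹ * polar q x p2) • u1 + (c⁻¹ * polar q x p1) • u2 with hx'
    have e1 : polar q u1 p1 = 0 := by rw [QuadraticMap.polar_comm, h11]
    have e2 : polar q u2 p2 = 0 := by rw [QuadraticMap.polar_comm, h22]
    have e3 : polar q p2 p1 = 0 := by rw [QuadraticMap.polar_comm, hpp]
    have f1 : polar q x' p1 = 0 := by
      rw [hx']
      simp only [QuadraticMap.polar_add_left, QuadraticMap.polar_smul_left, smul_eq_mul, e1, h12']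
      linear_combination (polar q x p1) * hcc + hch (polar q x p1)
    have f2 : polar q x' p2 = 0 := by
      rw [hx']
      simp only [QuadraticMap.polar_add_left, QuadraticMap.polar_smul_left, smul_eq_mul, e2, h12]
      linear_combination (polar q x p2) * hcc + hch (polar q x p2)
    refine ⟨x' + (c⁻¹ * polar q x' u2) • p1 + (c⁻¹ * polar q x' u1) • p2, ?_,
      c⁻¹ * polar q x' u2, c⁻¹ * polar q x' u1, ?_⟩
    · rw [hV4]
      refine ⟨⟨?_, ?_⟩, ⟨?_, ?_⟩⟩
      · simp only [QuadraticMap.polar_add_left, QuadraticMap.polar_smul_left, smul_eq_mul, f1,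
          hself, e3]
        ring
      · simp only [QuadraticMap.polar_add_left, QuadraticMap.polar_smul_left, smul_eq_mul, f2,
          hself, hpp]
        ring
      · simp only [QuadraticMap.polar_add_left, QuadraticMap.polar_smul_left, smul_eq_mul,
          h11, h21]
        linear_combination (polar q x' u1) * hcc + hch (polar q x' u1)
      · simp only [QuadraticMap.polar_add_left, QuadraticMap.polar_smul_left, smul_eq_mul,
          h22, ← hc]
        linear_combination (polar q x' u2) * hcc + hch (polar q x' u2)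
    · set A := (c⁻¹ * polar q x p2) • u1
      set B := (c⁻¹ * polar q x p1) • u2
      set C := (c⁻¹ * polar q x' u2) • p1
      set D := (c⁻¹ * polar q x' u1) • p2
      rw [hx', show A + B + C + D + (x + A + B + C + D) = x + (A + A) + (B + B) + (C + C) + (D + D)
        by abel, two_self (K := K) A, two_self (K := K) B, two_self (K := K) C,
        two_self (K := K) D]
      simp only [add_zero]
  refine ⟨Submodule.span K {wd q p1 p2} ⊔ Submodule.span K {wd q p1 u2 + wd q p2 u1} ⊔
    (V4.map (wd q p1) ⊔ V4.map (wd q p2)), ?_, ?_⟩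
  · have g1 : finrank K ↥(Submodule.span K {wd q p1 p2}) ≤ 1 :=
      (finrank_span_le_card _).trans (by simp)
    have g2 : finrank K ↥(Submodule.span K {wd q p1 u2 + wd q p2 u1}) ≤ 1 :=
      (finrank_span_le_card _).trans (by simp)
    have g3 : finrank K ↥(V4.map (wd q p1)) ≤ 4 := (Submodule.finrank_map_le _ _).trans hfin4
    have g4 : finrank K ↥(V4.map (wd q p2)) ≤ 4 := (Submodule.finrank_map_le _ _).trans hfin4
    have k1 := Submodule.finrank_add_le_finrank_add_finrank
      (Submodule.span K {wd q p1 p2}) (Submodule.span K {wd q p1 u2 + wd q p2 u1})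
    have k2 := Submodule.finrank_add_le_finrank_add_finrank (V4.map (wd q p1)) (V4.map (wd q p2))
    have k3 := Submodule.finrank_add_le_finrank_add_finrank
      (Submodule.span K {wd q p1 p2} ⊔ Submodule.span K {wd q p1 u2 + wd q p2 u1})
      (V4.map (wd q p1) ⊔ V4.map (wd q p2))
    omega
  · rintro X ⟨μ, hX⟩
    have hXp := sim_polar q hX
    have hX1 : polar q (X p1) p1 = 0 := by rw [hX, hq1, mul_zero]
    have hX2 : polar q (X p2) p2 = 0 := by rw [hX, hq2, mul_zero]
    set s := polar q (X p1) p2 with hs
    have hs' : polar q (X p2) p1 = s := by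
      rw [hXp, QuadraticMap.polar_comm q p2 p1, hpp, mul_zero, add_zero, QuadraticMap.polar_comm]
    have key : X + z * X * z = c⁻¹ • (wd q p1 (X p2) + wd q p2 (X p1)) +
        (c⁻¹ * μ + c⁻¹ * c⁻¹ * s) • wd q p1 p2 := by
      ext u
      have ez : ∀ x, z x = x + n x := fun x => by
        simp only [hn, LinearMap.add_apply, Module.End.one_apply]
        rw [← add_assoc, two_self (K := K), zero_add]
      have e0 : (X + z * X * z) u = X (n u) + n (X u) + n (X (n u)) := by
        simp only [LinearMap.add_apply, Module.End.mul_apply]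
        rw [ez u, map_add, ez, map_add]
        rw [show X u + (X u + X (n u) + (n (X u) + n (X (n u)))) =
          (X u + X u) + (X (n u) + n (X u) + n (X (n u))) by abel, two_self (K := K), zero_add]
      rw [e0, hformula (X u), hformula (X (n u)), hformula u, map_add, map_smul, map_smul]
      simp only [QuadraticMap.polar_add_left, QuadraticMap.polar_smul_left, hX1, hX2, ← hs, hs',
        hXp u p2, hXp u p1, smul_eq_mul, LinearMap.add_apply, LinearMap.smul_apply, wd_apply]
      module
    rw [key]
    obtain ⟨v2, hv2, a2, d2, e2⟩ := hdec (X p2)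
    obtain ⟨v1, hv1, a1, d1, e1⟩ := hdec (X p1)
    rw [hX2, hs', mul_zero, zero_smul, zero_add] at e2
    rw [hX1, ← hs, mul_zero, zero_smul, add_zero] at e1
    have key2 : wd q p1 (X p2) + wd q p2 (X p1) = (d2 + a1) • wd q p1 p2 +
        (c⁻¹ * s) • (wd q p1 u2 + wd q p2 u1) + (wd q p1 v2 + wd q p2 v1) := by
      rw [e2, e1]
      simp only [map_add, map_smul, wd_self, wd_comm q p2 p1]
      module
    rw [key2]
    refine Submodule.add_mem _ (Submodule.smul_mem _ _ (Submodule.add_mem _ (Submodule.add_mem _
      ?_ ?_) ?_)) ?_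
    · exact Submodule.mem_sup_left (Submodule.mem_sup_left (Submodule.smul_mem _ _
        (Submodule.mem_span_singleton_self _)))
    · exact Submodule.mem_sup_left (Submodule.mem_sup_right (Submodule.smul_mem _ _
        (Submodule.mem_span_singleton_self _)))
    · exact Submodule.mem_sup_right (Submodule.add_mem_sup ⟨v2, hv2, rfl⟩ ⟨v1, hv1, rfl⟩)
    · exact Submodule.mem_sup_left (Submodule.mem_sup_left (Submodule.smul_mem _ _
        (Submodule.mem_span_singleton_self _)))

/-- the rank of an alternating operator is not one. -/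
theorem rank_ne_one [FiniteDimensional K U] (hnd : ∀ x, (∀ y, polar q x y = 0) → x = 0) (n : Module.End K U)
    (hadj : ∀ u v, polar q (n u) v = polar q u (n v)) (halt : ∀ u, polar q (n u) u = 0) :
    finrank K ↥(LinearMap.range n) ≠ 1 := by
  intro h1
  let b := Module.finBasisOfFinrankEq K ↥(LinearMap.range n) h1
  obtain ⟨u1, hu1⟩ := (b 0).2
  have hrange : ∀ u, ∃ a : K, n u = a • n u1 := fun u => by
    have h := b.sum_repr ⟨n u, ⟨u, rfl⟩⟩
    rw [Fin.sum_univ_one] at h
    have h' := congrArg Subtype.val h
    simp only [Submodule.coe_smul] at h'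
    rw [← hu1] at h'
    exact ⟨_, h'.symm⟩
  have h0 : n u1 = 0 := hnd _ fun y => by
    obtain ⟨a, hy⟩ := hrange y
    rw [hadj, hy, QuadraticMap.polar_smul_right, QuadraticMap.polar_comm, halt, smul_zero]
  have := b.ne_zero 0
  exact this (Subtype.ext (by rw [← hu1, h0]; rfl))

/-- the rank of an alternating operator is not three. -/
theorem rank_ne_three [FiniteDimensional K U] (hnd : ∀ x, (∀ y, polar q x y = 0) → x = 0) (n : Module.End K U)
    (hadj : ∀ u v, polar q (n u) v = polar q u (n v)) (halt : ∀ u, polar q (n u) u = 0) :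
    finrank K ↥(LinearMap.range n) ≠ 3 := by
  intro h1
  have hch : ∀ x : K, x + x = 0 := CharTwo.add_self_eq_zero
  let b := Module.finBasisOfFinrankEq K ↥(LinearMap.range n) h1
  obtain ⟨u0, hu0⟩ := (b 0).2
  obtain ⟨u1, hu1⟩ := (b 1).2
  obtain ⟨u2, hu2⟩ := (b 2).2
  have hrange : ∀ u, ∃ a c d : K, n u = a • n u0 + c • n u1 + d • n u2 := fun u => by
    have h := b.sum_repr ⟨n u, ⟨u, rfl⟩⟩
    rw [Fin.sum_univ_three] at h
    have h' := congrArg Subtype.val h
    simp only [Submodule.coe_add, Submodule.coe_smul] at h'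
    rw [← hu0, ← hu1, ← hu2] at h'
    exact ⟨_, _, _, h'.symm⟩
  have hind : ∀ a c d : K, a • n u0 + c • n u1 + d • n u2 = 0 → a = 0 ∧ c = 0 ∧ d = 0 :=
    fun a c d h => by
    have hl := Fintype.linearIndependent_iff.1 b.linearIndependent ![a, c, d] (by
      rw [Fin.sum_univ_three]
      refine Subtype.ext ?_
      simp only [Submodule.coe_add, Submodule.coe_smul, Submodule.coe_zero,
        Matrix.cons_val_zero, Matrix.cons_val_one, Matrix.cons_val]
      rw [← hu0, ← hu1, ← hu2]; exact h)
    exact ⟨hl 0, hl 1, hl 2⟩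
  have hsym : ∀ x y, polar q x (n y) = polar q y (n x) := fun x y => by
    rw [← hadj, QuadraticMap.polar_comm]
  have halt' : ∀ u, polar q u (n u) = 0 := fun u => by rw [← hadj, halt]
  set x := polar q u1 (n u2) • u0 + polar q u0 (n u2) • u1 + polar q u0 (n u1) • u2 with hx
  have hx0 : n x = 0 := hnd _ fun y => by
    obtain ⟨a, c, d, hy⟩ := hrange y
    rw [hadj, hy, hx]
    simp only [QuadraticMap.polar_add_right, QuadraticMap.polar_add_left,
      QuadraticMap.polar_smul_left, QuadraticMap.polar_smul_right, smul_eq_mul, halt',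
      hsym u1 u0, hsym u2 u0, hsym u2 u1]
    linear_combination a * hch (polar q u0 (n u1) * polar q u0 (n u2)) +
      c * hch (polar q u1 (n u2) * polar q u0 (n u1)) +
      d * hch (polar q u0 (n u2) * polar q u1 (n u2))
  rw [hx, map_add, map_add, map_smul, map_smul, map_smul] at hx0
  obtain ⟨h12, h02, h01⟩ := hind _ _ _ hx0
  have h0 : n u0 = 0 := hnd _ fun y => by
    obtain ⟨a, c, d, hy⟩ := hrange y
    rw [hadj, hy, QuadraticMap.polar_add_right, QuadraticMap.polar_add_right,
      QuadraticMap.polar_smul_right, QuadraticMap.polar_smul_right,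
      QuadraticMap.polar_smul_right, halt', h01, h02]
    simp
  have := b.ne_zero 0
  exact this (Subtype.ext (by rw [← hu0, h0]; rfl))

/-- the map `X ↦ X + z X z` as a linear map. -/
def dd (z : Module.End K U) : Module.End K (Module.End K U) where
  toFun X := X + z * X * z
  map_add' X Y := by rw [mul_add, add_mul]; abel
  map_smul' c X := by
    rw [RingHom.id_apply, smul_add, mul_smul_comm, smul_mul_assoc]

omit [CharP K 2] in
theorem dd_apply (z X : Module.End K U) : dd z X = X + z * X * z := rfl

/-- **small rank gives few dimensions.** -/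
theorem Quat.finrank_dd_le [FiniteDimensional K U] (h8 : finrank K U = 8)
    (hnd : ∀ x, (∀ y, polar q x y = 0) → x = 0) (h : Quat i j z)
    (hi : ∀ u, q (i u) = q u) (hj : ∀ u, q (j u) = q u)
    (h4 : finrank K ↥(LinearMap.range (1 + z)) ≠ 4) :
    finrank K ↥((Sim q).map (dd z)) ≤ 10 := by
  have hle : 2 * finrank K ↥((⊤ : Submodule K U).map (1 + z)) ≤ finrank K ↥(⊤ : Submodule K U) :=
    two_mul_le (1 + z) ⊤ (fun x _ => Submodule.mem_top) fun x _ => by
      simp only [LinearMap.add_apply, Module.End.one_apply, map_add, h.zz]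
      rw [show x + z x + (z x + x) = (x + x) + (z x + z x) by abel, two_self (K := K) x,
        two_self (K := K) (z x), add_zero]
  rw [Submodule.map_top, finrank_top, h8] at hle
  have hlt : finrank K ↥(LinearMap.range (1 + z)) < 4 := by omega
  have h0 := h.q_range q hi hj hlt
  have hz := h.hz q hi
  have hadj := adj q hz h.zz
  have halt : ∀ u, polar q ((1 + z) u) u = 0 := fun u => by
    have := polar_add_self q z hz u
    have e : (1 + z) u = u + z u := by simp only [LinearMap.add_apply, Module.End.one_apply]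
    rw [e, this, ← e, h0]
  have n1 := rank_ne_one hnd (1 + z) hadj halt
  have n3 := rank_ne_three hnd (1 + z) hadj halt
  obtain h2 | h2 : finrank K ↥(LinearMap.range (1 + z)) = 2 ∨
      finrank K ↥(LinearMap.range (1 + z)) = 0 := by omega
  · obtain ⟨R, hR, hX⟩ := exists_ten h8 hnd hz h.zz h0 h2
    refine (Submodule.finrank_mono ?_).trans hR
    rintro _ ⟨X, hXS, rfl⟩
    exact hX X hXS
  · rw [Submodule.finrank_eq_zero] at h2
    have hz1 : ∀ u, z u = u := fun u => by
      have := LinearMap.congr_fun (LinearMap.range_eq_bot.1 h2) u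
      simp only [LinearMap.add_apply, Module.End.one_apply, LinearMap.zero_apply] at this
      calc z u = z u + (u + z u) := by rw [this, add_zero]
        _ = u + (z u + z u) := by abel
        _ = u := by rw [two_self (K := K), add_zero]
    have : (Sim q).map (dd z) = ⊥ := by
      rw [eq_bot_iff]
      rintro _ ⟨X, _, rfl⟩
      rw [Submodule.mem_bot, dd_apply]
      ext u
      simp only [LinearMap.add_apply, Module.End.mul_apply, hz1, LinearMap.zero_apply]
      exact two_self (K := K) _
    rw [this, finrank_bot]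
    omega

/-- **(F2)** -/
theorem Quat.rank_four [FiniteDimensional K U] (h8 : finrank K U = 8)
    (hnd : ∀ x, (∀ y, polar q x y = 0) → x = 0) (h : Quat i j z)
    (hi : ∀ u, q (i u) = q u) (hj : ∀ u, q (j u) = q u)
    (W : Submodule K (Module.End K U)) (hW : W ≤ Sim q)
    (h11 : 11 ≤ finrank K ↥(W.map (dd z))) :
    finrank K ↥(LinearMap.range (1 + z)) = 4 := by
  by_contra h4
  have := h.finrank_dd_le h8 hnd hi hj h4
  have := Submodule.finrank_mono (Submodule.map_mono (f := dd z) hW)
  omega

/-- conjugation -/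
def cj (g g' : Module.End K U) : Module.End K (Module.End K U) where
  toFun X := g * X * g'
  map_add' X Y := by rw [mul_add, add_mul]
  map_smul' c X := by
    rw [RingHom.id_apply, mul_smul_comm, smul_mul_assoc]

omit [CharP K 2] in
theorem cj_apply (g g' X : Module.End K U) : cj g g' X = g * X * g' := rfl

omit [CharP K 2] in
theorem Quat.conj (h : Quat i j z) : Quat (cj i (i * z)) (cj j (j * z)) (cj z z) where
  ii X := by
    ext u
    simp only [cj_apply, Module.End.mul_apply, h.ii, h.iz, h.zz]
  jj X := by
    ext u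
    simp only [cj_apply, Module.End.mul_apply, h.jj, h.jz, h.zz]
  ij X := by
    ext u
    simp only [cj_apply, Module.End.mul_apply, h.iz, h.zz, h.ij]
  zz X := by
    ext u
    simp only [cj_apply, Module.End.mul_apply, h.zz]

/-- the trace `X ↦ ∑_{g ∈ Q8} g X g⁻¹`. -/
def tr (i j z : Module.End K U) : Module.End K (Module.End K U) :=
  nm (cj i (i * z)) (cj j (j * z)) (cj z z)

omit [CharP K 2] in
/-- the trace, explicitly. -/
theorem Quat.tr_apply (h : Quat i j z) (X : Module.End K U) :
    tr i j z X = X + z * X * z + (i * X * (i * z) + i * z * X * i) +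
      (j * X * (j * z) + j * z * X * j) + (i * j * X * (j * i) + i * j * z * X * (j * i * z)) := by
  ext u
  simp only [tr, nm, Module.End.mul_apply, LinearMap.add_apply, Module.End.one_apply, cj_apply,
    h.iz, h.jz, h.zz, map_add]
  abel

/-- **(F1)** -/
theorem Quat.rank_four_of_tr [FiniteDimensional K U] (h8 : finrank K U = 8)
    (hnd : ∀ x, (∀ y, polar q x y = 0) → x = 0) (h : Quat i j z)
    (hi : ∀ u, q (i u) = q u) (hj : ∀ u, q (j u) = q u)
    (W : Submodule K (Module.End K U)) (hW : W ≤ Sim q)
    (h3 : 3 ≤ finrank K ↥(W.map (tr i j z))) :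
    finrank K ↥(LinearMap.range (1 + z)) = 4 := by
  by_contra h4
  have h10 := h.finrank_dd_le h8 hnd hi hj h4
  have hz := h.hz q hi
  set V := (Sim q).map (dd z) with hV
  have hS : ∀ g g' : Module.End K U, (∀ u, g (g' u) = u) → (∀ u, q (g' u) = q u) →
      (∀ u, q (g u) = q u) → ∀ X ∈ Sim q, g * X * g' ∈ Sim q := by
    rintro g g' hgg hg' hg X ⟨μ, hX⟩
    refine ⟨μ, fun u => ?_⟩
    have e : polar q ((g * X * g') u) u = polar q (X (g' u)) (g' u) := by
      have e1 := polar_inv q g hg (X (g' u)) (g' u)
      rw [hgg] at e1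
      exact e1
    rw [e, hX, hg']
  have hcj : ∀ g : Module.End K U, (∀ u, g (g u) = z u) → (∀ u, q (g u) = q u) →
      ∀ Y ∈ V, cj g (g * z) Y ∈ V := by
    rintro g hg hgq _ ⟨X, hX, rfl⟩
    have hgz : ∀ u, g (z u) = z (g u) := fun u => by rw [← hg, ← hg]
    refine ⟨g * X * (g * z), hS g (g * z) (fun u => ?_) (fun u => ?_) hgq X hX, ?_⟩
    · rw [Module.End.mul_apply, hg, h.zz]
    · rw [Module.End.mul_apply, hgq, hz]
    · ext u
      simp only [dd_apply, cj_apply, LinearMap.add_apply, Module.End.mul_apply, map_add, hgz, h.zz]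
  have hle : W.map (tr i j z) ≤ (V.map (1 + cj j (j * z))).map (1 + cj i (i * z)) := by
    rintro _ ⟨X, hX, rfl⟩
    exact ⟨_, ⟨dd z X, ⟨X, hW hX, rfl⟩, rfl⟩, rfl⟩
  have hzV : ∀ Y ∈ V, cj z z Y = Y := by
    rintro _ ⟨X, _, rfl⟩
    ext u
    simp only [dd_apply, cj_apply, LinearMap.add_apply, Module.End.mul_apply, map_add, h.zz]
    exact add_comm _ _
  have hq := h.conj
  have := four_mul_le (1 + cj i (i * z)) (1 + cj j (j * z)) V ?_ ?_ ?_ ?_ ?_
  · have := Submodule.finrank_mono hle
    omega
  · intro Y hY
    exact V.add_mem hY (hcj i h.ii hi Y hY)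
  · intro Y hY
    exact V.add_mem hY (hcj j h.jj hj Y hY)
  · intro x hx
    simp only [LinearMap.add_apply, Module.End.one_apply, map_add, hq.ii, hzV x hx]
    rw [show x + cj i (i * z) x + (cj i (i * z) x + x) =
      (x + x) + (cj i (i * z) x + cj i (i * z) x) by abel, two_self (K := K) x,
      two_self (K := K) (cj i (i * z) x), add_zero]
  · intro x hx
    simp only [LinearMap.add_apply, Module.End.one_apply, map_add, hq.jj, hzV x hx]
    rw [show x + cj j (j * z) x + (cj j (j * z) x + x) =
      (x + x) + (cj j (j * z) x + cj j (j * z) x) by abel, two_self (K := K) x,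
      two_self (K := K) (cj j (j * z) x), add_zero]
  · intro x hx
    simp only [LinearMap.add_apply, Module.End.one_apply, map_add]
    rw [hq.ij x, hzV _ (hcj j h.jj hj _ (hcj i h.ii hi x hx))]
    abel

end wedge

end Cfsg.Agent.H929.L34
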